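import Groth.Agent.PerfGen7.Devissage
import Groth.Agent.KFlatLib.Scheme.DQCohLimit
import Mathlib.Data.Countable.Basic

/-!
# Countability of morphisms out of perfect objects
-/

set_option linter.style.haveILetI false
set_option backward.isDefEq.respectTransparency false
set_option backward.isDefEq.respectTransparency.types false

universe u

open CategoryTheory CategoryTheory.Limits AlgebraicGeometry TopologicalSpace Pretriangulated Opposite

attribute [local instance] HasDerivedCategory.standard

noncomputable section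

namespace Groth.Agent.CountHom7

open Groth.Agent.KFlatLib Groth.Agent.PerfGen7

variable {X : Scheme.{u}}

/-- Objects with countably many morphisms into all shifts of `K`. -/
def CountHom (K : DCoh.D X) : ObjectProperty (DCoh.D X) := fun E => ∀ i : ℤ, Countable (E ⟶ K⟦i⟧)

/-- Affine generators. -/
theorem countHom_secObj {K : DCoh.D X} (hK : DCoh.IsQCohD K)
    (hc : ∀ V : X.Opens, IsAffineOpen V → ∀ i : ℤ, Countable Γ(DCoh.HD K i, V)) {V : X.Opens}
    (hV : IsAffineOpen V) : CountHom K (DCoh.inD X (secObj V)) := fun i => by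
  have hW : IsAffineOpen (V.ι ''ᵁ ⊤) := by rw [V.ι_image_top]; exact hV
  haveI := hc _ hW i
  let eH : DCoh.HD (K⟦i⟧) 0 ≅ DCoh.HD K i :=
    ((DerivedCategory.homologyFunctor X.Modules 0).shiftIso i 0 i (by omega)).app K
  refine Function.Injective.countable
    (f := fun φ => secEquiv V (DCoh.HD K i) (psi V (K⟦i⟧) φ ≫ eH.hom)) fun φ φ' h => ?_
  exact (bijH0_of_isQCohD (isQCohD_shift hK i) hV).1 ((cancel_mono eH.hom).1 ((secEquiv V _).injective h))

/-- Countable at the ends, countable in the middle. -/
theorem countable_mid {E : DCoh.D X} {T : Triangle (DCoh.D X)} (hT : T ∈ distTriang _)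
    [Countable (T.obj₁ ⟶ E)] [Countable (T.obj₃ ⟶ E)] : Countable (T.obj₂ ⟶ E) := by
  let r : (T.obj₂ ⟶ E) → (T.obj₁ ⟶ E) := fun φ => T.mor₁ ≫ φ
  have hsurj : Function.Surjective
      (fun p : (T.obj₃ ⟶ E) × Set.range r => T.mor₂ ≫ p.1 + p.2.2.choose) := fun φ => by
    let y : Set.range r := ⟨r φ, φ, rfl⟩
    have hy : r y.2.choose = r φ := y.2.choose_spec
    obtain ⟨g, hg⟩ := Triangle.yoneda_exact₂ T hT (φ - y.2.choose) (by
      rw [Preadditive.comp_sub, sub_eq_zero]; exact hy.symm)
    exact ⟨(g, y), by simp only; rw [← hg, sub_add_cancel]⟩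
  exact hsurj.countable

/-- Morphisms from a perfect object are countable. -/
theorem countHom_of_isPerfect [CompactSpace X] [QuasiSeparatedSpace X] {K : DCoh.D X} (hK : DCoh.IsQCohD K)
    (hc : ∀ V : X.Opens, IsAffineOpen V → ∀ i : ℤ, Countable Γ(DCoh.HD K i, V)) {E : DCoh.D X}
    (hE : DCoh.IsPerfect E) : CountHom K E := by
  let Φ : ObjectProperty (DCoh.D X) := CountHom K
  haveI : Φ.IsClosedUnderIsomorphisms := ⟨fun e h i => by
    haveI := h i
    exact Function.Injective.countable (f := fun φ => e.hom ≫ φ) fun _ _ h' => (cancel_epi e.hom).1 h'⟩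
  haveI : Φ.IsTriangulated :=
    { exists_zero := (HasZeroObject.zero (C := DCoh.D X)).elim fun Z hZ =>
        ⟨Z, hZ, fun i => @Subsingleton.to_countable _ ⟨fun f g => hZ.eq_of_src f g⟩⟩
      isStableUnderShiftBy := fun m => ⟨fun A h i => by
        haveI := h (i - m)
        let e := ((shiftFunctorAdd' (DCoh.D X) (i - m) m i (by omega)).app K).symm
        refine Function.Surjective.countable (f := fun φ : A ⟶ K⟦i - m⟧ => φ⟦m⟧' ≫ e.hom) fun ψ => ?_
        obtain ⟨φ, hφ⟩ := (shiftFunctor (DCoh.D X) m).map_surjective (ψ ≫ e.inv)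
        refine ⟨φ, ?_⟩
        show φ⟦m⟧' ≫ e.hom = ψ
        rw [hφ, Category.assoc, e.inv_hom_id, Category.comp_id]⟩
      ext₂' := fun T hT h₁ h₃ => ObjectProperty.le_isoClosure _ _ fun i => by
        haveI := h₁ i
        haveI := h₃ i
        exact countable_mid hT }
  exact perfect_devissage Φ (fun V hV => countHom_secObj hK hc hV) hE

end Groth.Agent.CountHom7
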